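import Groth.Agent.Unram17Lib.Jacobian
import Groth.Agent.Unram17Lib.EtaleChart
import Groth.Agent.KRLib.Model
import Mathlib.LinearAlgebra.Matrix.Rank

/-! Jacobian criterion for a quotient by an exact (Koszul) family. -/

set_option autoImplicit false
set_option linter.style.haveILetI false
set_option backward.isDefEq.respectTransparency false
set_option maxHeartbeats 1000000
universe u
open TensorProduct
noncomputable section

namespace LciJacLib

variable {R A B L : Type u} [CommRing R] [CommRing A] [CommRing B] [Field L]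
  [Algebra R A] [Algebra R B] [Algebra A B] [IsScalarTower R A B]
  [Algebra A L] [Algebra B L] [IsScalarTower A B L]
  [Algebra R L] [IsScalarTower R A L] [IsScalarTower R B L]

/-- Right exactness of the conormal sequence on a fibre. -/
theorem finrank_omega_quotient (hsurj : Function.Surjective (algebraMap A B)) {n : ℕ} (f : Fin n → A)
    (hker : RingHom.ker (algebraMap A B) = Ideal.span (Set.range f)) :
    Module.finrank L ((L ⊗[A] Ω[A⁄R]) ⧸ Submodule.span L (Set.range fun i => (1 : L) ⊗ₜ[A] KaehlerDifferential.D R A (f i))) =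
      Module.finrank L (L ⊗[B] Ω[B⁄R]) := by
  let W := Submodule.span L (Set.range fun i => (1 : L) ⊗ₜ[A] KaehlerDifferential.D R A (f i))
  let Q := (L ⊗[A] Ω[A⁄R]) ⧸ W
  let Φ₀ : Ω[A⁄R] →ₗ[A] L ⊗[B] Ω[B⁄R] :=
    ((TensorProduct.mk B L Ω[B⁄R] 1).restrictScalars A).comp (KaehlerDifferential.map R R A B)
  let Φ : L ⊗[A] Ω[A⁄R] →ₗ[L] L ⊗[B] Ω[B⁄R] := Φ₀.liftBaseChange L
  have hΦ : ∀ a, Φ ((1 : L) ⊗ₜ[A] KaehlerDifferential.D R A a) =
      (1 : L) ⊗ₜ[B] KaehlerDifferential.D R B (algebraMap A B a) := fun a => by
    simp [Φ, Φ₀]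
  have hW : W ≤ LinearMap.ker Φ := by
    rw [Submodule.span_le]
    rintro _ ⟨i, rfl⟩
    show Φ _ = 0
    have h0 : algebraMap A B (f i) = 0 := RingHom.mem_ker.mp (hker.ge (Ideal.subset_span ⟨i, rfl⟩))
    rw [hΦ, h0, map_zero, TensorProduct.tmul_zero]
  have hkill : ∀ a ∈ Ideal.span (Set.range f), W.mkQ ((1 : L) ⊗ₜ[A] KaehlerDifferential.D R A a) = 0 := by
    intro a ha
    obtain ⟨c, rfl⟩ := (Ideal.mem_span_range_iff_exists_fun).mp ha
    rw [map_sum, TensorProduct.tmul_sum, map_sum]
    refine Finset.sum_eq_zero fun i _ => ?_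
    rw [Derivation.leibniz, TensorProduct.tmul_add, map_add, TensorProduct.tmul_smul, TensorProduct.tmul_smul]
    have h0 : algebraMap A L (f i) = 0 := by
      rw [IsScalarTower.algebraMap_apply A B L, RingHom.mem_ker.mp (hker.ge (Ideal.subset_span ⟨i, rfl⟩)), map_zero]
    rw [show W.mkQ (c i • ((1 : L) ⊗ₜ[A] KaehlerDifferential.D R A (f i))) = 0 from by
        rw [← IsScalarTower.algebraMap_smul L (c i), map_smul,
          show W.mkQ ((1 : L) ⊗ₜ[A] KaehlerDifferential.D R A (f i)) = 0 from
            (Submodule.Quotient.mk_eq_zero W).mpr (Submodule.subset_span ⟨i, rfl⟩), smul_zero],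
      ← IsScalarTower.algebraMap_smul L (f i), h0, zero_smul, map_zero, add_zero]
  let g : A → Q := fun a => W.mkQ ((1 : L) ⊗ₜ[A] KaehlerDifferential.D R A a)
  have hg : ∀ a a', algebraMap A B a = algebraMap A B a' → g a = g a' := fun a a' h => by
    rw [← sub_eq_zero]
    show W.mkQ _ - W.mkQ _ = 0
    rw [← map_sub, ← TensorProduct.tmul_sub, ← map_sub]
    exact hkill _ (hker ▸ RingHom.mem_ker.mpr (by rw [map_sub, h, sub_self]))
  let s := Function.surjInv hsurj
  have hs : ∀ b, algebraMap A B (s b) = b := Function.surjInv_eq hsurj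
  let δ : Derivation R B Q := Derivation.mk'
    { toFun := fun b => g (s b)
      map_add' := fun b b' => by
        rw [hg (s (b + b')) (s b + s b') (by simp [hs])]
        simp [g, TensorProduct.tmul_add]
      map_smul' := fun r b => by
        rw [hg (s (r • b)) (r • s b) (by simp [hs, Algebra.smul_def, ← IsScalarTower.algebraMap_apply])]
        show W.mkQ _ = _ • W.mkQ _
        rw [Derivation.map_smul, TensorProduct.tmul_smul, LinearMap.map_smul_of_tower]
        rfl }
    (fun b b' => by
      show g (s (b * b')) = b • g (s b') + b' • g (s b)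
      rw [hg (s (b * b')) (s b * s b') (by simp [hs])]
      conv_rhs => rw [← hs b, ← hs b']
      simp only [g, Derivation.leibniz, TensorProduct.tmul_add, map_add, TensorProduct.tmul_smul,
        LinearMap.map_smul_of_tower, ← IsScalarTower.algebraMap_smul B (s b), ← IsScalarTower.algebraMap_smul B (s b'), hs])
  let Ψ : L ⊗[B] Ω[B⁄R] →ₗ[L] Q := δ.liftKaehlerDifferential.liftBaseChange L
  have hΨ : ∀ a, Ψ ((1 : L) ⊗ₜ[B] KaehlerDifferential.D R B (algebraMap A B a)) = g a := fun a => by
    simp only [Ψ, LinearMap.liftBaseChange_tmul, one_smul, Derivation.liftKaehlerDifferential_comp_D]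
    exact hg _ _ (hs _)
  refine (LinearEquiv.ofLinearMap (W.liftQ Φ hW) Ψ ?_ ?_).finrank_eq
  · refine TensorProduct.AlgebraTensorModule.curry_injective (LinearMap.ext_ring ?_)
    refine Derivation.liftKaehlerDifferential_unique (R := R) _ _ (Derivation.ext fun b => ?_)
    obtain ⟨a, rfl⟩ := hsurj b
    show W.liftQ Φ hW (Ψ ((1 : L) ⊗ₜ[B] KaehlerDifferential.D R B (algebraMap A B a))) = _
    rw [hΨ]
    exact hΦ a
  · refine Submodule.linearMap_qext _ ?_
    refine TensorProduct.AlgebraTensorModule.curry_injective (LinearMap.ext_ring ?_)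
    refine Derivation.liftKaehlerDifferential_unique (R := R) _ _ (Derivation.ext fun a => ?_)
    show Ψ (W.liftQ Φ hW (W.mkQ ((1 : L) ⊗ₜ[A] KaehlerDifferential.D R A a))) = g a
    rw [Submodule.mkQ_apply, Submodule.liftQ_apply, hΦ, hΨ]

/-- An exact family generating a proper ideal of a local ring is a minimal generating family. -/
theorem card_le_of_span_eq {T : Type u} [CommRing T] [IsLocalRing T] {c : ℕ} {f : Fin c → T}
    (hf : KoszDetLib.IsExactK f) (hm : ∀ i, f i ∈ IsLocalRing.maximalIdeal T) (s : Finset T)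
    (hs : Ideal.span (s : Set T) = Ideal.span (Set.range f)) : c ≤ s.card := by
  classical
  have h1 : ∀ i, f i ∈ Ideal.span (Set.range fun x : s => (x : T)) := fun i => by
    rw [show Set.range (fun x : s => (x : T)) = (s : Set T) from Subtype.range_coe]
    exact hs.ge (Ideal.subset_span ⟨i, rfl⟩)
  have h2 : ∀ x : s, (x : T) ∈ Ideal.span (Set.range f) := fun x => hs.le (Ideal.subset_span x.2)
  choose N hN using fun i => Ideal.mem_span_range_iff_exists_fun.mp (h1 i)
  choose M hM using fun x => Ideal.mem_span_range_iff_exists_fun.mp (h2 x)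
  let π := IsLocalRing.residue T
  have key : (Matrix.of fun i x => π (N i x)) * (Matrix.of fun x j => π (M x j)) = 1 := by
    ext i j
    have hrel : ∑ k, ((∑ x, N i x * M x k) - if k = i then 1 else 0) * f k = 0 := by
      simp only [sub_mul, Finset.sum_sub_distrib, Finset.sum_mul, ite_mul, one_mul, zero_mul,
        Finset.sum_ite_eq', Finset.mem_univ, if_true]
      rw [Finset.sum_comm]
      simp only [mul_assoc, ← Finset.mul_sum, hM]
      rw [hN, sub_self]
    have h3 : π ((∑ x, N i x * M x j) - if j = i then 1 else 0) = 0 :=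
      (IsLocalRing.residue_eq_zero_iff _).mpr
        ((Ideal.span_le.mpr (by rintro _ ⟨l, rfl⟩; exact hm l)) (KRLib.coeff_mem_of_relation hf _ hrel j))
    rw [map_sub, sub_eq_zero, map_sum] at h3
    simp only [Matrix.mul_apply, Matrix.of_apply, ← map_mul, h3, Matrix.one_apply, eq_comm (a := i) (b := j),
      apply_ite π, map_one, map_zero]
  have h4 : (1 : Matrix (Fin c) (Fin c) (IsLocalRing.ResidueField T)).rank = Fintype.card (Fin c) := Matrix.rank_one
  rw [← key] at h4
  have h5 := ((Matrix.rank_mul_le_left (Matrix.of fun i x => π (N i x)) (Matrix.of fun x j => π (M x j))).trans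
    (Matrix.rank_le_card_width (Matrix.of fun i x => π (N i x))))
  rw [h4, Fintype.card_fin, Fintype.card_coe] at h5
  exact h5

/-- Jacobian criterion. -/
theorem isSmoothAt_iff_finrank_le [Algebra.FormallySmooth R A] [Algebra.FinitePresentation R A]
    (hsurj : Function.Surjective (algebraMap A B)) {m c : ℕ} (f : Fin c → A) (hf : KoszDetLib.IsExactK f)
    (hker : RingHom.ker (algebraMap A B) = Ideal.span (Set.range f)) (P : Ideal B) [P.IsPrime]
    (hrank : Module.finrank (P.comap (algebraMap A B)).ResidueField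
      ((P.comap (algebraMap A B)).ResidueField ⊗[A] Ω[A⁄R]) = m + c) :
    Algebra.IsSmoothAt R P ↔ Module.finrank P.ResidueField (P.ResidueField ⊗[B] Ω[B⁄R]) ≤ m := by
  classical
  let q : Ideal A := P.comap (algebraMap A B)
  let L := q.ResidueField
  have hmem : ∀ a, algebraMap A B a = 0 → algebraMap A L a = 0 := fun a ha =>
    Ideal.algebraMap_residueField_eq_zero.mpr (show algebraMap A B a ∈ P by rw [ha]; exact zero_mem P)
  let θ : B →+* L := RingHom.liftOfSurjective (algebraMap A B) hsurj
    ⟨algebraMap A L, fun a ha => RingHom.mem_ker.mpr (hmem a (RingHom.mem_ker.mp ha))⟩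
  letI : Algebra B L := θ.toAlgebra
  haveI : IsScalarTower A B L := IsScalarTower.of_algebraMap_eq fun a =>
    (RingHom.liftOfRightInverse_comp_apply (algebraMap A B) _ (Function.rightInverse_surjInv hsurj)
      ⟨algebraMap A L, fun a ha => RingHom.mem_ker.mpr (hmem a (RingHom.mem_ker.mp ha))⟩ a).symm
  haveI : IsScalarTower R B L := IsScalarTower.of_algebraMap_eq fun r => by
    rw [IsScalarTower.algebraMap_apply R A B, ← IsScalarTower.algebraMap_apply A B L,
      ← IsScalarTower.algebraMap_apply R A L]
  have hθker : RingHom.ker (algebraMap B L) = P := by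
    ext b
    obtain ⟨a, rfl⟩ := hsurj b
    rw [RingHom.mem_ker, ← IsScalarTower.algebraMap_apply A B L]
    exact Ideal.algebraMap_residueField_eq_zero
  let χ : P.ResidueField →+* L := Ideal.ResidueField.lift P (algebraMap B L) hθker.ge (fun b hb => by
    refine IsUnit.mem_submonoid_iff _ |>.mpr (IsUnit.mk0 _ fun h => hb ?_)
    exact hθker.le (RingHom.mem_ker.mpr h))
  letI : Algebra P.ResidueField L := χ.toAlgebra
  haveI : IsScalarTower B P.ResidueField L := IsScalarTower.of_algebraMap_eq fun b =>
    (Ideal.ResidueField.lift_algebraMap P (algebraMap B L) _ _ b).symm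
  have hLB : Module.finrank P.ResidueField (P.ResidueField ⊗[B] Ω[B⁄R]) = Module.finrank L (L ⊗[B] Ω[B⁄R]) := by
    rw [← (AlgebraTensorModule.cancelBaseChange B P.ResidueField L L Ω[B⁄R]).finrank_eq, Module.finrank_baseChange (R := L) (S := P.ResidueField) (M' := P.ResidueField ⊗[B] Ω[B⁄R])]
  let d : Fin c → L ⊗[A] Ω[A⁄R] := fun i => (1 : L) ⊗ₜ[A] KaehlerDifferential.D R A (f i)
  let W := Submodule.span L (Set.range d)
  haveI : Module.Finite A Ω[A⁄R] := inferInstance
  have hsum : Module.finrank L (L ⊗[B] Ω[B⁄R]) + Module.finrank L W = m + c := by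
    rw [← finrank_omega_quotient hsurj f hker, Submodule.finrank_quotient_add_finrank, hrank]
  -- transfer to the quotient ring
  let I : Ideal A := Ideal.span (Set.range f)
  let e : (A ⧸ I) ≃ₐ[R] B :=
    ((Ideal.quotientEquivAlgOfEq R (hker.symm)).trans
      (Ideal.quotientKerAlgEquivOfSurjective (f := IsScalarTower.toAlgHom R A B) hsurj))
  have he : ∀ a, e (Ideal.Quotient.mk I a) = algebraMap A B a := fun a => rfl
  let P' : Ideal (A ⧸ I) := P.comap e.toAlgHom.toRingHom
  have hq : P'.comap (Ideal.Quotient.mk I) = q := by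
    ext a
    show e (Ideal.Quotient.mk I a) ∈ P ↔ algebraMap A B a ∈ P
    rw [he]
  have hiff : Algebra.IsSmoothAt R P ↔ Algebra.IsSmoothAt R P' := by
    constructor
    · intro h
      exact Unram17Lib.isSmoothAt_comap_algEquiv e P
    · intro h
      haveI : (P'.comap e.symm.toAlgHom.toRingHom).IsPrime := inferInstance
      have h' := Unram17Lib.isSmoothAt_comap_algEquiv e.symm P'
      have hP : P'.comap e.symm.toAlgHom.toRingHom = P := by
        ext b
        show e (e.symm b) ∈ P ↔ b ∈ P
        rw [e.apply_symm_apply]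
      simpa only [hP] using h'
  have hJ : Algebra.IsSmoothAt R P' ↔ ∃ s : Finset A, (↑s : Set A) ⊆ (I : Set A) ∧
      Ideal.map (algebraMap A (Localization.AtPrime q)) I =
        Ideal.span ((algebraMap A (Localization.AtPrime q)) '' (↑s : Set A)) ∧
      LinearIndependent q.ResidueField
        (fun g : ↥s => (1 : q.ResidueField) ⊗ₜ[A] KaehlerDifferential.D R A (g : A)) :=
    Unram17Lib.isSmoothAt_quotient_iff R A I (Submodule.fg_span (Set.finite_range f)) P'
  rw [hiff, hLB, hJ]
  constructor
  · rintro ⟨s, hsI, hspan, hli⟩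
    let T := Localization.AtPrime q
    have hm : ∀ i, algebraMap A T (f i) ∈ IsLocalRing.maximalIdeal T := fun i => by
      rw [IsLocalization.AtPrime.to_map_mem_maximal_iff T q]
      show algebraMap A B (f i) ∈ P
      rw [RingHom.mem_ker.mp (hker.ge (Ideal.subset_span ⟨i, rfl⟩))]
      exact zero_mem P
    haveI : Module.Flat A T := IsLocalization.flat T q.primeCompl
    have hcard : c ≤ s.card := by
      refine le_trans (card_le_of_span_eq (KRLib.isExactK_of_flat (R := T) hf) hm (s.image (algebraMap A T)) ?_)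
        Finset.card_image_le
      rw [Finset.coe_image, ← hspan, Ideal.map_span, ← Set.range_comp]
      rfl
    have hdim : s.card ≤ Module.finrank L W := by
      have hsub : ∀ x : s, (1 : L) ⊗ₜ[A] KaehlerDifferential.D R A (x : A) ∈ W := fun x => by
        obtain ⟨a, ha⟩ := Ideal.mem_span_range_iff_exists_fun.mp (hsI x.2)
        rw [← ha, map_sum, TensorProduct.tmul_sum]
        refine Submodule.sum_mem _ fun i _ => ?_
        rw [Derivation.leibniz, TensorProduct.tmul_add, TensorProduct.tmul_smul, TensorProduct.tmul_smul,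
          ← IsScalarTower.algebraMap_smul L (f i),
          hmem _ (RingHom.mem_ker.mp (hker.ge (Ideal.subset_span ⟨i, rfl⟩))), zero_smul, add_zero,
          ← IsScalarTower.algebraMap_smul L (a i)]
        exact W.smul_mem _ (Submodule.subset_span ⟨i, rfl⟩)
      have hli' : LinearIndependent L fun x : s => (⟨_, hsub x⟩ : W) := .of_comp W.subtype hli
      haveI : Module.Finite L W := Module.Finite.span_of_finite L (Set.finite_range d)
      simpa using hli'.fintype_card_le_finrank
    omega
  · intro hle
    have hW : c ≤ Module.finrank L W := by omega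
    have hli : LinearIndependent L d := by
      rw [linearIndependent_iff_card_le_finrank_span]
      simpa [Set.finrank] using hW
    refine ⟨Finset.univ.image f, ?_, ?_, ?_⟩
    · intro a ha
      obtain ⟨i, -, rfl⟩ := Finset.mem_image.mp (Finset.mem_coe.mp ha)
      exact Ideal.subset_span ⟨i, rfl⟩
    · rw [Ideal.map_span, Finset.coe_image, Finset.coe_univ, Set.image_univ]
    · have himg : ∀ x : ↥(Finset.univ.image f), ∃ i, f i = x := fun x => by
        obtain ⟨i, -, hi⟩ := Finset.mem_image.mp x.2
        exact ⟨i, hi⟩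
      choose σ hσ using himg
      have := hli.comp σ fun x y h => Subtype.ext (by rw [← hσ x, ← hσ y, h])
      simpa only [d, Function.comp_def, hσ] using this

end LciJacLib
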