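import Groth.Agent.LciJacLib.Alg
import Mathlib.RingTheory.Smooth.StandardSmoothOfFree
import Mathlib.RingTheory.Kaehler.Polynomial

/-! An algebra whose differentials need `p` generators at a prime embeds, near it, in a smooth algebra of
relative dimension `p`. -/

set_option autoImplicit false
set_option linter.style.haveILetI false
set_option backward.isDefEq.respectTransparency false
set_option maxHeartbeats 1000000
universe u
open TensorProduct
noncomputable section

namespace LciJacLib

/-- The fibre dimension may be computed in any field extension of the residue field. -/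
theorem finrank_fibre_congr {A : Type u} [CommRing A] (q : Ideal A) [q.IsPrime] (L : Type u) [Field L]
    [Algebra A L] (hL : RingHom.ker (algebraMap A L) = q) (M : Type u) [AddCommGroup M] [Module A M] :
    Module.finrank L (L ⊗[A] M) = Module.finrank q.ResidueField (q.ResidueField ⊗[A] M) := by
  let χ : q.ResidueField →+* L := Ideal.ResidueField.lift q (algebraMap A L) hL.ge (fun b hb => by
    refine IsUnit.mem_submonoid_iff _ |>.mpr (IsUnit.mk0 _ fun h => hb ?_)
    exact hL.le (RingHom.mem_ker.mpr h))
  letI : Algebra q.ResidueField L := χ.toAlgebra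
  haveI : IsScalarTower A q.ResidueField L := IsScalarTower.of_algebraMap_eq fun b =>
    (Ideal.ResidueField.lift_algebraMap q (algebraMap A L) _ _ b).symm
  rw [← (AlgebraTensorModule.cancelBaseChange A q.ResidueField L L M).finrank_eq,
    Module.finrank_baseChange (R := L) (S := q.ResidueField) (M' := q.ResidueField ⊗[A] M)]

theorem finrank_omega_le_of_surjective {R A B : Type u} [CommRing R] [CommRing A] [CommRing B]
    [Algebra R A] [Algebra R B] [Algebra A B] [IsScalarTower R A B] [Module.Finite A Ω[A⁄R]]
    (hsurj : Function.Surjective (algebraMap A B)) (Q : Ideal B) [Q.IsPrime] :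
    Module.finrank Q.ResidueField (Q.ResidueField ⊗[B] Ω[B⁄R]) ≤
      Module.finrank (Q.comap (algebraMap A B)).ResidueField
        ((Q.comap (algebraMap A B)).ResidueField ⊗[A] Ω[A⁄R]) := by
  let L := Q.ResidueField
  have hL : RingHom.ker (algebraMap A L) = Q.comap (algebraMap A B) := by
    rw [IsScalarTower.algebraMap_eq A B L]
    rw [← RingHom.comap_ker, Ideal.ker_algebraMap_residueField]
  rw [← finrank_fibre_congr (Q.comap (algebraMap A B)) L hL Ω[A⁄R]]
  let Φ : L ⊗[A] Ω[A⁄R] →ₗ[L] L ⊗[B] Ω[B⁄R] :=
    ((KaehlerDifferential.mapBaseChange R A B).baseChange L).comp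
      (AlgebraTensorModule.cancelBaseChange A B L L Ω[A⁄R]).symm.toLinearMap
  refine LinearMap.finrank_le_finrank_of_surjective (f := Φ) ?_
  exact (LinearMap.lTensor_surjective L (KaehlerDifferential.mapBaseChange_surjective R A B hsurj)).comp
    (AlgebraTensorModule.cancelBaseChange A B L L Ω[A⁄R]).symm.surjective

/-- Standard smooth of relative dimension the rank of the differentials, near a smooth prime. -/
theorem exists_standardSmooth_of_finrank {R A : Type u} [CommRing R] [CommRing A] [Algebra R A]
    [Algebra.FinitePresentation R A] (P : Ideal A) [P.IsPrime] [Algebra.IsSmoothAt R P] {p : ℕ}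
    (hp : Module.finrank P.ResidueField (P.ResidueField ⊗[A] Ω[A⁄R]) = p) :
    ∃ g : A, g ∉ P ∧ Algebra.IsStandardSmoothOfRelativeDimension p R (Localization.Away g) := by
  obtain ⟨g, hg, hstd⟩ := Algebra.IsSmoothAt.exists_notMem_isStandardSmooth R P
  refine ⟨g, hg, ?_⟩
  let A' := Localization.Away g
  let L := P.ResidueField
  have hu : IsUnit (algebraMap A L g) := IsUnit.mk0 _ fun h => hg (Ideal.algebraMap_residueField_eq_zero.mp h)
  letI : Algebra A' L := (IsLocalization.Away.lift g hu).toAlgebra
  haveI : IsScalarTower A A' L := IsScalarTower.of_algebraMap_eq fun a =>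
    (IsLocalization.Away.lift_eq g hu a).symm
  haveI : Nontrivial A' := (algebraMap A' L).domain_nontrivial
  haveI : Module.Free A' Ω[A'⁄R] := inferInstance
  haveI := Algebra.FormallyEtale.of_isLocalization (Rₘ := A') (Submonoid.powers g)
  rw [Algebra.IsStandardSmoothOfRelativeDimension.iff_of_isStandardSmooth, ← Module.finrank_eq_rank]
  have h1 := (((AlgebraTensorModule.cancelBaseChange A A' L L Ω[A⁄R]).symm ≪≫ₗ
    AlgebraTensorModule.congr (LinearEquiv.refl L L)
      (KaehlerDifferential.tensorKaehlerEquivOfFormallyEtale R A A'))).finrank_eq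
  rw [hp, Module.finrank_baseChange] at h1
  exact_mod_cast h1.symm

/-- The embedding. -/
theorem exists_smooth_embedding {R B : Type u} [CommRing R] [CommRing B] [Algebra R B]
    [Algebra.FinitePresentation R B] (Q : Ideal B) [Q.IsPrime] {p : ℕ}
    (hp : Module.finrank Q.ResidueField (Q.ResidueField ⊗[B] Ω[B⁄R]) ≤ p) :
    ∃ (A : Type u) (_ : CommRing A) (_ : Algebra R A) (π : A →ₐ[R] B) (g : A), Function.Surjective π ∧
      π g ∉ Q ∧ Algebra.IsStandardSmoothOfRelativeDimension p R (Localization.Away g) := by
  classical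
  obtain ⟨n, π₀, hπ₀, -⟩ := Algebra.FinitePresentation.out (R := R) (A := B)
  let A₀ := MvPolynomial (Fin n ⊕ Fin p) R
  let φ : A₀ →ₐ[R] B := MvPolynomial.aeval (Sum.elim (fun i => π₀ (MvPolynomial.X i)) fun _ => 0)
  have hφ : Function.Surjective φ := by
    intro b
    obtain ⟨a, rfl⟩ := hπ₀ b
    refine ⟨MvPolynomial.rename Sum.inl a, ?_⟩
    show MvPolynomial.aeval _ (MvPolynomial.rename _ a) = _
    rw [MvPolynomial.aeval_rename, Sum.elim_comp_inl]
    exact congrArg (fun h : MvPolynomial (Fin n) R →ₐ[R] B => h a) (MvPolynomial.aeval_unique π₀).symm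
  letI : Algebra A₀ B := φ.toRingHom.toAlgebra
  haveI : IsScalarTower R A₀ B := IsScalarTower.of_algebraMap_eq fun r => (φ.commutes r).symm
  obtain ⟨gens, hgens⟩ := Algebra.FinitePresentation.ker_fG_of_surjective φ hφ
  let q : Ideal A₀ := Q.comap (algebraMap A₀ B)
  let K := q.ResidueField
  haveI : IsScalarTower R A₀ K := inferInstance
  let L := Q.ResidueField
  have hLker : RingHom.ker (algebraMap A₀ L) = q := by
    rw [IsScalarTower.algebraMap_eq A₀ B L]
    rw [← RingHom.comap_ker, Ideal.ker_algebraMap_residueField]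
  haveI : Module.Free A₀ Ω[A₀⁄R] := Module.Free.of_basis (KaehlerDifferential.mvPolynomialBasis R _)
  haveI : Module.Finite A₀ Ω[A₀⁄R] := Module.Finite.of_basis (KaehlerDifferential.mvPolynomialBasis R _)
  let f : Fin gens.card → A₀ := fun i => (gens.equivFin.symm i : A₀)
  have hf : RingHom.ker (algebraMap A₀ B) = Ideal.span (Set.range f) := by
    refine hgens.symm.trans (congrArg Ideal.span ?_)
    rw [Set.range_comp' Subtype.val, gens.equivFin.symm.range_eq_univ, Set.image_univ, Subtype.range_coe]
  have hN : ∀ (L' : Type u) [Field L'] [Algebra A₀ L'], Module.finrank L' (L' ⊗[A₀] Ω[A₀⁄R]) = n + p := by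
    intro L' _ _
    rw [Module.finrank_eq_card_basis ((KaehlerDifferential.mvPolynomialBasis R (Fin n ⊕ Fin p)).baseChange L')]
    simp
  let d : A₀ → L ⊗[A₀] Ω[A₀⁄R] := fun a => (1 : L) ⊗ₜ KaehlerDifferential.D R A₀ a
  let W := Submodule.span L (Set.range fun i => d (f i))
  have hW : n ≤ Module.finrank L W := by
    have h := finrank_omega_quotient (R := R) (L := L) hφ f hf
    have h2 := Submodule.finrank_quotient_add_finrank W
    rw [h, hN L] at h2
    have : Module.finrank L (L ⊗[B] Ω[B⁄R]) ≤ p := hp
    omega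
  obtain ⟨b, hbsub, hbspan, hbind⟩ := exists_linearIndependent L (Set.range fun i => d (f i))
  have hbfin : b.Finite := (Set.finite_range _).subset hbsub
  haveI := hbfin.fintype
  have hcard : n ≤ Fintype.card b := by
    have h3 := finrank_span_set_eq_card (R := L) hbind
    rw [hbspan, Set.toFinset_card] at h3
    exact h3 ▸ hW
  obtain ⟨ι⟩ : Nonempty (Fin n ↪ b) := Function.Embedding.nonempty_of_card_le (by simpa using hcard)
  choose a ha using fun i : Fin n => hbsub (ι i).2
  let t : Fin n → A₀ := fun i => f (a i)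
  have hlit : LinearIndependent L fun i => d (t i) := by
    have h : (fun i => d (t i)) = (fun x : b => (x : L ⊗[A₀] Ω[A₀⁄R])) ∘ ι := funext fun i => ha i
    rw [h]
    exact hbind.comp _ ι.injective
  let I : Ideal A₀ := Ideal.span (Set.range t)
  have hIker : ∀ x ∈ I, φ x = 0 := fun x hx => by
    have : I ≤ RingHom.ker (algebraMap A₀ B) := Ideal.span_le.mpr (by
      rintro _ ⟨i, rfl⟩
      exact hf.ge (Ideal.subset_span ⟨a i, rfl⟩))
    exact RingHom.mem_ker.mp (this hx)
  let A := A₀ ⧸ I
  let π : A →ₐ[R] B := Ideal.Quotient.liftₐ I φ hIker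
  haveI : Algebra.FinitePresentation R A :=
    Algebra.FinitePresentation.quotient (Submodule.fg_span (Set.finite_range t))
  let P : Ideal A := Q.comap π.toRingHom
  have hP : P.comap (Ideal.Quotient.mk I) = q := rfl
  letI : Algebra A B := π.toRingHom.toAlgebra
  haveI : IsScalarTower A₀ A B := ⟨fun x a y => by
    obtain ⟨c, rfl⟩ := Ideal.Quotient.mk_surjective a
    show φ (x * c) * y = φ x * (φ c * y)
    rw [map_mul, mul_assoc]⟩
  haveI : IsScalarTower R A B := IsScalarTower.of_algebraMap_eq fun r => (π.commutes r).symm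
  haveI : IsScalarTower A₀ A L := IsScalarTower.of_algebraMap_eq (R := A₀) (S := A) (A := L) fun x => by
    rw [IsScalarTower.algebraMap_apply A₀ B L]
    rfl
  haveI : IsScalarTower R A L := IsScalarTower.of_algebraMap_eq (R := R) (S := A) (A := L) fun r => by
    rw [IsScalarTower.algebraMap_apply R B L, IsScalarTower.algebraMap_apply R A B]
    rfl
  have hPker : RingHom.ker (algebraMap A L) = P := by
    rw [IsScalarTower.algebraMap_eq A B L]
    rw [← RingHom.comap_ker, Ideal.ker_algebraMap_residueField]
    rfl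
  -- smoothness at `P`
  letI : Algebra K L := (Ideal.ResidueField.lift q (algebraMap A₀ L) hLker.ge (fun c hc => by
    refine IsUnit.mem_submonoid_iff _ |>.mpr (IsUnit.mk0 _ fun h => hc ?_)
    exact hLker.le (RingHom.mem_ker.mpr h))).toAlgebra
  haveI : IsScalarTower A₀ K L := IsScalarTower.of_algebraMap_eq fun c =>
    (Ideal.ResidueField.lift_algebraMap q (algebraMap A₀ L) _ _ c).symm
  have hliK : LinearIndependent K fun i => (1 : K) ⊗ₜ[A₀] KaehlerDifferential.D R A₀ (t i) := by
    let e := AlgebraTensorModule.cancelBaseChange A₀ K L L Ω[A₀⁄R]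
    have h := hlit.map' e.symm.toLinearMap (LinearEquiv.ker _)
    have he : (e.symm.toLinearMap ∘ fun i => d (t i)) =
        fun i => (1 : L) ⊗ₜ[K] ((1 : K) ⊗ₜ[A₀] KaehlerDifferential.D R A₀ (t i)) := funext fun i => by
      show e.symm _ = _
      rw [LinearEquiv.symm_apply_eq]
      simp [e, d]
    rw [he] at h
    exact LinearIndependent.of_comp (TensorProduct.mk K L _ 1) (h.restrict_scalars' K)
  haveI : Algebra.IsSmoothAt R P := by
    refine (Unram17Lib.isSmoothAt_quotient_iff R A₀ I (Submodule.fg_span (Set.finite_range t)) P).mpr ?_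
    show ∃ s : Finset A₀, (↑s : Set A₀) ⊆ (I : Set A₀) ∧
      Ideal.map (algebraMap A₀ (Localization.AtPrime q)) I =
        Ideal.span ((algebraMap A₀ (Localization.AtPrime q)) '' (↑s : Set A₀)) ∧
      LinearIndependent K (fun g : ↥s => (1 : K) ⊗ₜ[A₀] KaehlerDifferential.D R A₀ (g : A₀))
    refine ⟨Finset.univ.image t, ?_, ?_, ?_⟩
    · intro x hx
      obtain ⟨i, -, rfl⟩ := Finset.mem_image.mp (Finset.mem_coe.mp hx)
      exact Ideal.subset_span ⟨i, rfl⟩
    · rw [Ideal.map_span, Finset.coe_image, Finset.coe_univ, Set.image_univ]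
    · have himg : ∀ x : ↥(Finset.univ.image t), ∃ i, t i = x := fun x => by
        obtain ⟨i, -, hi⟩ := Finset.mem_image.mp x.2
        exact ⟨i, hi⟩
      choose σ hσ using himg
      have := hliK.comp σ fun x y h => Subtype.ext (by rw [← hσ x, ← hσ y, h])
      simpa only [Function.comp_def, hσ] using this
  have hrank : Module.finrank P.ResidueField (P.ResidueField ⊗[A] Ω[A⁄R]) = p := by
    rw [← finrank_fibre_congr P L hPker, ← finrank_omega_quotient (R := R) (L := L) (A := A₀) (B := A)
      Ideal.Quotient.mk_surjective t Ideal.mk_ker]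
    have h2 := Submodule.finrank_quotient_add_finrank (Submodule.span L (Set.range fun i => d (t i)))
    rw [finrank_span_eq_card hlit, hN L, Fintype.card_fin] at h2
    simp only [d] at h2 ⊢
    omega
  obtain ⟨g, hg, hstd⟩ := exists_standardSmooth_of_finrank P hrank
  refine ⟨A, inferInstance, inferInstance, π, g, ?_, hg, hstd⟩
  intro x
  obtain ⟨c, rfl⟩ := hφ x
  exact ⟨Ideal.Quotient.mk I c, rfl⟩

end LciJacLib
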